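import Mathlib

/-!
# Clopen subsets and completion along one element (towards Gabber rigidity)
-/

set_option autoImplicit false
set_option linter.style.haveILetI false

universe u

open PrimeSpectrum Polynomial

namespace Groth.Agent.EGA43.GabberClopen

/-- `V` is clopen in the open set `U`. -/
def ClopenIn {R : Type u} [CommRing R] (U V : Set (PrimeSpectrum R)) : Prop :=
  V ⊆ U ∧ IsOpen V ∧ IsOpen (U \ V)

/-- `f` identifies the clopen subsets of `U` with those of its preimage. -/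
def Bij {R S : Type u} [CommRing R] [CommRing S] (f : R →+* S) (U : Set (PrimeSpectrum R)) : Prop :=
  (∀ V₁, ClopenIn (comap f ⁻¹' U) V₁ → ∃ V, ClopenIn U V ∧ comap f ⁻¹' V = V₁) ∧
    ∀ V V', ClopenIn U V → ClopenIn U V' → comap f ⁻¹' V = comap f ⁻¹' V' → V = V'

theorem ClopenIn.preimage {R S : Type u} [CommRing R] [CommRing S] (f : R →+* S) {U V : Set (PrimeSpectrum R)}
    (h : ClopenIn U V) : ClopenIn (comap f ⁻¹' U) (comap f ⁻¹' V) :=
  ⟨Set.preimage_mono h.1, h.2.1.preimage (continuous_comap f), h.2.2.preimage (continuous_comap f)⟩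

theorem bij_comp {R S T : Type u} [CommRing R] [CommRing S] [CommRing T] {f : R →+* S} {g : S →+* T}
    {U : Set (PrimeSpectrum R)} (hf : Bij f U) (hg : Bij g (comap f ⁻¹' U)) : Bij (g.comp f) U := by
  have e : ∀ V : Set (PrimeSpectrum R), comap (g.comp f) ⁻¹' V = comap g ⁻¹' (comap f ⁻¹' V) := fun V => rfl
  refine ⟨fun V₁ h => ?_, fun V V' h h' he => hf.2 V V' h h' (hg.2 _ _ (h.preimage f) (h'.preimage f) he)⟩
  obtain ⟨W, hW, rfl⟩ := hg.1 V₁ (e U ▸ h)
  obtain ⟨V, hV, rfl⟩ := hf.1 W hW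
  exact ⟨V, hV, e V⟩

section Data

variable {R : Type u} [CommRing R]

/-- The part of `D(b)` cut out by `a`, for `a * a = b ^ n * a`. -/
def part (b a : R) : Set (PrimeSpectrum R) := {z | b ∉ z.asIdeal ∧ a ∉ z.asIdeal}

theorem isOpen_part (b a : R) : IsOpen (part b a) := (basicOpen b).2.inter (basicOpen a).2

theorem sub_mem_or {b a : R} {n : ℕ} (ha : a * a = b ^ n * a) (z : PrimeSpectrum R) :
    a ∈ z.asIdeal ∨ a - b ^ n ∈ z.asIdeal :=
  z.2.mem_or_mem (by rw [mul_sub, ha, mul_comm, sub_self]; exact Submodule.zero_mem _)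

theorem exists_data (b : R) (S : Set (PrimeSpectrum R)) (hS : S ⊆ {z | b ∉ z.asIdeal}) (ho : IsOpen S)
    (hc : IsOpen ({z | b ∉ z.asIdeal} \ S)) :
    ∃ (n : ℕ) (a : R), a * a = b ^ n * a ∧ S = part b a ∧ {z | b ∉ z.asIdeal} \ S = part b (b ^ n - a) := by
  let L := Localization.Away b
  have hcl : IsClopen (comap (algebraMap R L) ⁻¹' S) := by
    refine ⟨isOpen_compl_iff.1 ?_, ho.preimage (continuous_comap _)⟩
    convert hc.preimage (continuous_comap (algebraMap R L)) using 1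
    ext z
    simp only [Set.mem_compl_iff, Set.mem_preimage, Set.mem_diff, Set.mem_setOf_eq]
    refine ⟨fun h => ⟨fun hb => z.2.ne_top (Ideal.eq_top_of_isUnit_mem _ hb
      (IsLocalization.Away.algebraMap_isUnit b)), h⟩, fun h => h.2⟩
  obtain ⟨e, he, hS'⟩ := PrimeSpectrum.exists_idempotent_basicOpen_eq_of_isClopen hcl
  obtain ⟨⟨a₀, ⟨_, n₀, rfl⟩⟩, hea⟩ := IsLocalization.surj (Submonoid.powers b) e
  dsimp only at hea
  have h0 : algebraMap R L (a₀ * a₀) = algebraMap R L (b ^ n₀ * a₀) := by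
    rw [map_mul, map_mul, ← hea]
    linear_combination (algebraMap R L (b ^ n₀)) ^ 2 * he.eq
  obtain ⟨⟨_, k, rfl⟩, hk⟩ := (IsLocalization.eq_iff_exists (Submonoid.powers b) L).1 h0
  dsimp only at hk
  have ha : b ^ k * a₀ * (b ^ k * a₀) = b ^ (n₀ + k) * (b ^ k * a₀) := by
    linear_combination b ^ k * hk
  have hmem : ∀ z : PrimeSpectrum R, b ∉ z.asIdeal → (z ∈ S ↔ b ^ k * a₀ ∉ z.asIdeal) := by
    intro z hz
    have hr : z ∈ Set.range (comap (algebraMap R L)) := by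
      rw [PrimeSpectrum.localization_away_comap_range L b]
      exact hz
    obtain ⟨z', rfl⟩ := hr
    have hu : ∀ i, algebraMap R L (b ^ i) ∉ z'.asIdeal := fun i h => z'.2.ne_top
      (Ideal.eq_top_of_isUnit_mem _ h (by rw [map_pow]; exact (IsLocalization.Away.algebraMap_isUnit b).pow i))
    show z' ∈ comap (algebraMap R L) ⁻¹' S ↔ algebraMap R L (b ^ k * a₀) ∉ z'.asIdeal
    rw [hS', map_mul, ← hea]
    show e ∉ z'.asIdeal ↔ _
    refine ⟨fun h h' => ?_, fun h h' => h (Ideal.mul_mem_left _ _ (Ideal.mul_mem_right _ _ h'))⟩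
    rcases z'.2.mem_or_mem h' with h' | h'
    · exact hu k h'
    · exact (z'.2.mem_or_mem h').elim h (hu n₀)
  refine ⟨n₀ + k, b ^ k * a₀, ha, ?_, ?_⟩
  · ext z
    exact ⟨fun h => ⟨hS h, (hmem z (hS h)).1 h⟩, fun h => (hmem z h.1).2 h.2⟩
  · ext z
    constructor
    · rintro ⟨hb, hzS⟩
      refine ⟨hb, fun h => ?_⟩
      have h' : b ^ k * a₀ ∈ z.asIdeal := by_contra fun h' => hzS ((hmem z hb).2 h')
      have := add_mem h h'
      rw [sub_add_cancel] at this
      exact hb (z.2.mem_of_pow_mem _ this)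
    · rintro ⟨hb, h⟩
      refine ⟨hb, fun hzS => h ?_⟩
      rw [← neg_sub]
      exact neg_mem ((sub_mem_or ha z).resolve_left ((hmem z hb).1 hzS))

theorem part_eq_of_congr (b : R) (hb : b ∈ Ideal.jacobson (⊥ : Ideal R)) {n n' l : ℕ} {a a' : R}
    (ha : a * a = b ^ n * a) (ha' : a' * a' = b ^ n' * a') (hl : 0 < l)
    (h : (b * (a * b ^ n' - a' * b ^ n)) ^ l ∈ Ideal.span {b ^ ((1 + n + n') * l + 1)}) :
    part b a = part b a' := by
  obtain ⟨c, hc⟩ := Ideal.mem_span_singleton'.1 h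
  have hu : ∀ e : R, e = 1 ∨ e = -1 → IsUnit (e - b * c) := by
    rintro e (rfl | rfl)
    · have := Ideal.mem_jacobson_bot.1 hb (-c)
      rwa [mul_neg, neg_add_eq_sub] at this
    · have := (Ideal.mem_jacobson_bot.1 hb c).neg
      rwa [neg_add, neg_add_eq_sub, sub_eq_neg_add, neg_add_eq_sub] at *
  ext z
  by_cases hbz : b ∈ z.asIdeal
  · exact ⟨fun h => absurd hbz h.1, fun h => absurd hbz h.1⟩
  let π := Ideal.Quotient.mk z.asIdeal
  have hπb : π b ≠ 0 := fun h => hbz (Ideal.Quotient.eq_zero_iff_mem.1 h)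
  have key : ∀ e : R, e = 1 ∨ e = -1 → π (a * b ^ n' - a' * b ^ n) ≠ π (e * b ^ (n + n')) := by
    intro e he hd
    have he' : ∃ s : R, (s = 1 ∨ s = -1) ∧ e ^ l = s := by
      rcases he with rfl | rfl
      · exact ⟨1, Or.inl rfl, one_pow l⟩
      · exact ⟨_, neg_one_pow_eq_or R l, rfl⟩
    obtain ⟨s, hs, hes⟩ := he'
    have h1 : π (b ^ ((1 + n + n') * l)) * π (s - b * c) = 0 := by
      have h2 : π (c * b ^ ((1 + n + n') * l + 1)) = π ((b * (e * b ^ (n + n'))) ^ l) := by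
        rw [hc, map_pow, map_mul, hd, ← map_mul, ← map_pow]
      rw [show (b * (e * b ^ (n + n'))) ^ l = s * b ^ ((1 + n + n') * l) by
        rw [← hes, mul_comm b, mul_assoc, mul_pow, ← pow_succ, ← pow_mul]; ring_nf] at h2
      rw [map_sub, mul_sub, ← map_mul, ← map_mul, sub_eq_zero, mul_comm _ s, ← h2]
      congr 1
      ring
    rcases mul_eq_zero.1 h1 with h1 | h1
    · rw [map_pow] at h1; exact pow_ne_zero _ hπb h1
    · exact ((hu s hs).map π).ne_zero h1
  constructor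
  · rintro ⟨-, h1⟩
    refine ⟨hbz, fun h2 => key 1 (Or.inl rfl) ?_⟩
    have h3 := (sub_mem_or ha z).resolve_left h1
    rw [map_sub, map_mul, map_mul, Ideal.Quotient.eq_zero_iff_mem.2 h2,
      show π a = π (b ^ n) from Ideal.Quotient.eq.2 h3, zero_mul, sub_zero, ← map_mul, ← pow_add, one_mul]
  · rintro ⟨-, h1⟩
    refine ⟨hbz, fun h2 => key (-1) (Or.inr rfl) ?_⟩
    have h3 := (sub_mem_or ha' z).resolve_left h1
    rw [map_sub, map_mul, map_mul, Ideal.Quotient.eq_zero_iff_mem.2 h2,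
      show π a' = π (b ^ n') from Ideal.Quotient.eq.2 h3, zero_mul, zero_sub, ← map_mul, ← pow_add, neg_one_mul,
      map_neg, add_comm]

theorem exists_pow_eq_zero {b x : R} (h : ∀ z : PrimeSpectrum R, b ∉ z.asIdeal → x ∈ z.asIdeal) :
    ∃ l : ℕ, 0 < l ∧ (b * x) ^ l = 0 := by
  have hn : IsNilpotent (b * x) := nilpotent_iff_mem_prime.2 fun P hP => by
    by_cases hb : b ∈ P
    · exact P.mul_mem_right _ hb
    · exact P.mul_mem_left _ (h ⟨P, hP⟩ hb)
  obtain ⟨l, hl⟩ := hn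
  exact ⟨l + 1, Nat.succ_pos _, by rw [pow_succ, hl, zero_mul]⟩

/-- An approximate idempotent of `R[1/b]` is close to one, for a pair henselian along `b`. -/
theorem exists_near_data (b : R) [HenselianRing R (Ideal.span {b})] (n : ℕ) (a₀ : R)
    (h : a₀ * a₀ - b ^ n * a₀ ∈ Ideal.span {b ^ (3 * n + 2)}) :
    ∃ y, y * y = b ^ n * y ∧ y - a₀ ∈ Ideal.span {b ^ (n + 1)} := by
  obtain ⟨c, hc⟩ := Ideal.mem_span_singleton'.1 h
  have hb : b ∈ Ideal.jacobson (⊥ : Ideal R) :=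
    HenselianRing.jac (I := Ideal.span {b}) (Ideal.mem_span_singleton_self b)
  obtain ⟨vi, hvi⟩ := isUnit_iff_exists_inv.1 (Ideal.mem_jacobson_bot.1 hb (4 * c * b ^ (n + 1)))
  let δ := b ^ (n + 1) * (b * c * vi)
  obtain ⟨r, hr, hr1⟩ := HenselianRing.is_henselian (I := Ideal.span {b}) (X ^ 2 - X + C δ)
    (by monicity!) 1 (by
      simp only [eval_add, eval_sub, eval_pow, eval_X, eval_C, one_pow, sub_self, zero_add, δ]
      exact Ideal.mem_span_singleton'.2 ⟨b ^ n * (b * c * vi), by ring⟩)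
    (by simp only [derivative_add, derivative_sub, derivative_X_pow, derivative_X, derivative_C, add_zero,
          eval_sub, eval_mul, eval_C, eval_pow, eval_X, eval_one]
        norm_num)
  obtain ⟨q, hq⟩ := Ideal.mem_span_singleton'.1 hr1
  obtain ⟨ri, hri⟩ : ∃ ri, r * ri = 1 := isUnit_iff_exists_inv.1 (by
    have := Ideal.mem_jacobson_bot.1 hb q
    rwa [mul_comm b q, hq, sub_add_cancel] at this)
  have hr' : r ^ 2 - r + δ = 0 := by simpa using hr
  refine ⟨a₀ + b ^ (n + 1) * (2 * a₀ - b ^ n) * (-(b * c * vi) * ri), ?_,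
    Ideal.mem_span_singleton'.2 ⟨(2 * a₀ - b ^ n) * (-(b * c * vi) * ri), by ring⟩⟩
  set d := b * c * vi with hd
  set s := 2 * a₀ - b ^ n with hs
  set w := -d * ri with hw
  have hw' : w + b ^ (n + 1) * w ^ 2 + d = 0 := by
    have h1 : d * (r ^ 2 - r + δ) * ri ^ 2 = 0 := by rw [hr']; ring
    simp only [δ] at h1
    rw [hw]
    linear_combination h1 + (d * ri - d * r * ri - d) * hri
  have hv : (b * (4 * c * b ^ (n + 1)) + 1) * d = b * c := by
    rw [hd]; linear_combination (b * c) * hvi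
  linear_combination (b ^ (3 * n + 1) * (b * (4 * c * b ^ (n + 1)) + 1)) * hw' - b ^ (3 * n + 1) * hv
    - (1 + 4 * (b ^ (n + 1) * w + b ^ (2 * n + 2) * w ^ 2)) * hc

end Data

end Groth.Agent.EGA43.GabberClopen
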