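import Groth.Agent.EGA43.GabberClopen.Step
import Groth.Agent.DCat.DCompleteAdic
import Groth.Agent.HenselLib.Perm
import Groth.Agent.AdicRing.ComplBij

/-!
# Gabber rigidity for clopen subsets: henselian pairs and completions
-/

set_option autoImplicit false
set_option backward.isDefEq.respectTransparency false
set_option linter.style.haveILetI false

universe u

open PrimeSpectrum

namespace Groth.Agent.EGA43.GabberClopen

open DCat.DC

theorem bij_of_isHomeomorph {R S : Type u} [CommRing R] [CommRing S] {f : R →+* S}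
    (h : IsHomeomorph (comap f)) (U : Set (PrimeSpectrum R)) : Bij f U := by
  refine ⟨fun V₁ hV₁ => ⟨comap f '' V₁, ⟨?_, h.isOpenMap _ hV₁.2.1, ?_⟩, Set.preimage_image_eq _ h.injective⟩,
    fun V V' _ _ he => (Set.preimage_injective.2 h.surjective) he⟩
  · rintro _ ⟨z, hz, rfl⟩
    exact hV₁.1 hz
  · have h1 := h.isOpenMap _ hV₁.2.2
    rwa [Set.image_diff h.injective, Set.image_preimage_eq _ h.surjective] at h1

theorem isHomeomorph_comap_of_surjective {R S : Type u} [CommRing R] [CommRing S] {f : R →+* S}
    (hf : Function.Surjective f) (hk : ∀ x, f x = 0 → IsNilpotent x) : IsHomeomorph (comap f) := by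
  refine isHomeomorph_iff_isEmbedding_surjective.2 ⟨(isClosedEmbedding_comap_of_surjective S f hf).isEmbedding, ?_⟩
  intro z
  haveI : (z.asIdeal.map f).IsPrime := Ideal.map_isPrime_of_surjective hf fun x hx => nilradical_le_prime _ (hk x hx)
  refine ⟨⟨z.asIdeal.map f, inferInstance⟩, PrimeSpectrum.ext ?_⟩
  show (z.asIdeal.map f).comap f = z.asIdeal
  rw [Ideal.comap_map_of_surjective f hf, sup_eq_left]
  exact fun x hx => nilradical_le_prime _ (hk x hx)

theorem exists_of_compatible {B : Type u} [CommRing B] (J : Ideal B) (z : ∀ n : ℕ, B ⧸ J ^ n)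
    (hz : ∀ {m n : ℕ} (h : m ≤ n), Ideal.Quotient.factorPow J h (z n) = z m) :
    ∃ c : AdicCompletion J B, ∀ n, AdicCompletion.evalₐ J n c = z n := by
  choose r hr using fun n => Ideal.Quotient.mk_surjective (z n)
  have hc : AdicCompletion.IsAdicCauchy J B r := fun {m n} hmn => by
    rw [SModEq.sub_mem, smul_eq_mul, Ideal.mul_top]
    refine Ideal.Quotient.eq.1 ?_
    rw [hr m, ← hz hmn, ← hr n, Ideal.Quotient.factorPow, Ideal.Quotient.factor_mk]
  exact ⟨AdicCompletion.mk J B ⟨r, hc⟩, fun n => (AdicCompletion.evalₐ_mk J n _).trans (hr n)⟩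

section Completion

variable {A B : Type u} [CommRing A] [CommRing B] [Algebra A B]

theorem eval_smul {R : Type u} [CommRing R] [Algebra A R] (φ : B →ₐ[A] R) (f : A) (x : B) :
    φ (f • x) = f • φ x := map_smul φ f x

/-- The completion along `t` is complete along `t` and along whatever `B` is complete along. -/
theorem modDC_completion (t : A) (I : Ideal A) (h : ModDC I B) :
    I ⊔ Ideal.span {t} ≤ dcIdeal (A := A) (AdicCompletion (Ideal.span {algebraMap A B t}) B) := by
  let b := algebraMap A B t
  let J : Ideal B := Ideal.span {b}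
  have hlev : ∀ n : ℕ, I ⊔ Ideal.span {t} ≤ dcIdeal (A := A) (B ⧸ J ^ n) := by
    intro n
    refine sup_le (fun f hf => ?_) ?_
    · refine comp_coker (φ := sm B f) (θ := sm B f) (h f hf) (h f hf) (Ideal.Quotient.mk (J ^ n)).toAddMonoidHom
        Ideal.Quotient.mk_surjective (AddMonoidHom.mulLeft (b ^ n)) (fun z => ?_) (fun z => mul_smul_comm f _ z)
        (fun z => map_smul (Ideal.Quotient.mkₐ A (J ^ n)) f z)
      show Ideal.Quotient.mk (J ^ n) z = 0 ↔ ∃ c, b ^ n * c = z
      rw [Ideal.Quotient.eq_zero_iff_mem, Ideal.span_singleton_pow, Ideal.mem_span_singleton]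
      exact ⟨fun ⟨c, hc⟩ => ⟨c, hc.symm⟩, fun ⟨c, hc⟩ => ⟨c, hc.symm⟩⟩
    · rw [Ideal.span_le, Set.singleton_subset_iff]
      refine isRadical_dcIdeal ⟨n, ?_⟩
      rw [mem_dcIdeal]
      have e : sm (B ⧸ J ^ n) (t ^ n) = sm (B ⧸ J ^ n) (0 : A) := by
        refine AddMonoidHom.ext fun x => ?_
        show t ^ n • x = (0 : A) • x
        rw [zero_smul, Algebra.smul_def, IsScalarTower.algebraMap_apply A B (B ⧸ J ^ n), map_pow,
          Ideal.Quotient.algebraMap_eq,
          Ideal.Quotient.eq_zero_iff_mem.2 (Ideal.pow_mem_pow (Ideal.mem_span_singleton_self b) n), zero_mul]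
      rw [e]
      exact (dcIdeal (A := A) (B ⧸ J ^ n)).zero_mem
  intro f hf
  rw [mem_dcIdeal]
  let ev : ∀ n, AdicCompletion J B →ₐ[A] B ⧸ J ^ n := fun n => (AdicCompletion.evalₐ J n).restrictScalars A
  refine comp_of (fun x hx => AdicCompletion.ext_evalₐ fun n => ?_) fun y => ?_
  · rw [map_zero]
    exact congrFun (eq_zero (hlev n hf) (x := fun m => ev n (x m)) fun m =>
      (congrArg (ev n) (hx m)).trans (map_smul (ev n) f _)) 0
  · have hcomp : ∀ (k : ℕ) {m n : ℕ} (hmn : m ≤ n),
        Ideal.Quotient.factorPow J hmn (sol (hlev n hf) (fun k => ev n (y k)) k) =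
          sol (hlev m hf) (fun k => ev m (y k)) k := by
      intro k m n hmn
      have h1 := congrFun (sol_natural (hlev n hf) (hlev m hf) (Ideal.Quotient.factorPow J hmn).toAddMonoidHom
        (fun z => by
          obtain ⟨z, rfl⟩ := Ideal.Quotient.mk_surjective z
          rfl) (fun k => ev n (y k))) k
      refine Eq.trans h1.symm ?_
      refine congrArg (fun w => sol (hlev m hf) w k) (funext fun k => ?_)
      obtain ⟨c, hck⟩ : ∃ c, AdicCompletion.mk J B c = y k := AdicCompletion.mk_surjective J B (y k)
      show Ideal.Quotient.factorPow J hmn (AdicCompletion.evalₐ J n (y k)) = AdicCompletion.evalₐ J m (y k)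
      rw [← hck, AdicCompletion.evalₐ_mk, AdicCompletion.evalₐ_mk, Ideal.Quotient.factorPow, Ideal.Quotient.factor_mk,
        Ideal.Quotient.eq]
      have h3 := c.2 hmn
      rw [SModEq.sub_mem, smul_eq_mul, Ideal.mul_top] at h3
      rw [← neg_sub]
      exact neg_mem h3
    choose x hx using fun k => exists_of_compatible J (fun n => sol (hlev n hf) (fun k => ev n (y k)) k)
      fun {m n} hmn => hcomp k hmn
    refine ⟨x, fun k => AdicCompletion.ext_evalₐ fun n => ?_⟩
    show ev n (x k - f • x (k + 1)) = ev n (y k)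
    rw [map_sub, map_smul]
    show AdicCompletion.evalₐ J n (x k) - f • AdicCompletion.evalₐ J n (x (k + 1)) = _
    rw [hx, hx]
    exact sol_spec (hlev n hf) (fun k => ev n (y k)) k

end Completion

/-- Iterated completions along a list of elements of `I`. -/
theorem exists_iterated {A : Type u} [CommRing A] (I : Ideal A) [HenselianRing A I] (l : List A)
    (hl : ∀ f ∈ l, f ∈ I) :
    ∃ (B : Type u) (_ : CommRing B) (_ : Algebra A B), HenselianRing B (I.map (algebraMap A B)) ∧
      (∀ (n : ℕ) (x : B), ∃ a, x - algebraMap A B a ∈ I.map (algebraMap A B) ^ n) ∧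
      (∀ (n : ℕ) (a : A), algebraMap A B a ∈ I.map (algebraMap A B) ^ n → a ∈ I ^ n) ∧
      Ideal.span {x | x ∈ l} ≤ dcIdeal (A := A) B ∧
      ∀ U : Set (PrimeSpectrum A), (∀ z, z ∉ U → I ≤ z.asIdeal) → Bij (algebraMap A B) U := by
  induction l with
  | nil =>
    refine ⟨A, inferInstance, inferInstance, ?_, fun n x => ⟨x, by simp⟩, fun n a h => ?_, ?_,
      fun U _ => bij_of_isHomeomorph ?_ U⟩
    · rw [Algebra.algebraMap_self, Ideal.map_id]; infer_instance
    · rwa [Algebra.algebraMap_self, Ideal.map_id] at h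
    · simp
    · exact IsHomeomorph.id
  | cons t l ih =>
    obtain ⟨B, _, _, hB, hsurj, hinj, hdc, hbij⟩ := ih fun f hf => hl f (List.mem_cons_of_mem _ hf)
    haveI := hB
    have ht : t ∈ I := hl t List.mem_cons_self
    let b := algebraMap A B t
    have hbI : Ideal.span {b} ≤ I.map (algebraMap A B) := by
      rw [Ideal.span_le, Set.singleton_subset_iff]; exact Ideal.mem_map_of_mem _ ht
    haveI : HenselianRing B (Ideal.span {b}) := HenselLib.henselianRing_of_le hbI
    let C := Cb b
    let J := I.map (algebraMap A B)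
    have hJC : I.map (algebraMap A C) = J.map (algebraMap B C) := by
      rw [Ideal.map_map, ← IsScalarTower.algebraMap_eq]
    have hbC : Ideal.span {algebraMap B C b} ≤ J.map (algebraMap B C) := by
      rw [Ideal.span_le, Set.singleton_subset_iff]
      exact Ideal.mem_map_of_mem _ (hbI (Ideal.mem_span_singleton_self b))
    have hbn : ∀ n, Ideal.span {algebraMap B C b ^ n} ≤ J.map (algebraMap B C) ^ n := fun n => by
      rw [← Ideal.span_singleton_pow]; exact Ideal.pow_right_mono hbC n
    refine ⟨C, inferInstance, inferInstance, ?_, fun n x => ?_, fun n a h => ?_, ?_, fun U hU => ?_⟩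
    · haveI hC : IsAdicComplete (Ideal.span {algebraMap B C b}) C := by
        have h := AdicCompletion.isAdicComplete_self (Ideal.span {b}) ⟨{b}, by simp⟩
        rw [Ideal.map_span, Set.image_singleton] at h
        exact h
      haveI : HenselianRing C (Ideal.span {algebraMap B C b}) := inferInstance
      let β : B ⧸ Ideal.span {b} →+* C ⧸ Ideal.span {algebraMap B C b} :=
        Ideal.quotientMap _ (algebraMap B C) (by
          rw [← Ideal.map_le_iff_le_comap, Ideal.map_span, Set.image_singleton])
      letI := β.toAlgebra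
      have hβ : Function.Surjective β := fun y => by
        obtain ⟨y, rfl⟩ := Ideal.Quotient.mk_surjective y
        obtain ⟨x, hx⟩ := exists_sub_mem b y 1
        exact ⟨Ideal.Quotient.mk _ x, (Ideal.Quotient.eq.2 (by rwa [pow_one] at hx)).symm⟩
      haveI : Algebra.IsIntegral (B ⧸ Ideal.span {b}) (C ⧸ Ideal.span {algebraMap B C b}) :=
        ⟨β.isIntegral_of_surjective hβ⟩
      haveI := HenselLib.henselianRing_quotient J (Ideal.span {b})
      have h2 := HenselLib.henselianRing_of_isIntegral (J.map (Ideal.Quotient.mk (Ideal.span {b})))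
        (C ⧸ Ideal.span {algebraMap B C b})
      have e : (J.map (algebraMap B C)).map (Ideal.Quotient.mk (Ideal.span {algebraMap B C b})) =
          (J.map (Ideal.Quotient.mk (Ideal.span {b}))).map β := by
        exact (Ideal.map_map (algebraMap B C) _).trans (Ideal.map_map (Ideal.Quotient.mk (Ideal.span {b})) β).symm
      rw [hJC]
      haveI : HenselianRing (C ⧸ Ideal.span {algebraMap B C b})
          ((J.map (algebraMap B C)).map (Ideal.Quotient.mk (Ideal.span {algebraMap B C b}))) := e ▸ h2
      exact HenselLib.henselianRing_trans hbC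
    · obtain ⟨y, hy⟩ := exists_sub_mem b x n
      obtain ⟨a, ha⟩ := hsurj n y
      refine ⟨a, ?_⟩
      rw [hJC, IsScalarTower.algebraMap_apply A B C,
        show x - algebraMap B C (algebraMap A B a) =
          (x - algebraMap B C y) + (algebraMap B C (y - algebraMap A B a)) by rw [map_sub]; ring]
      exact add_mem (hbn n hy) (by rw [← Ideal.map_pow]; exact Ideal.mem_map_of_mem _ ha)
    · refine hinj n a ?_
      rw [hJC, IsScalarTower.algebraMap_apply A B C, ← Ideal.map_pow] at h
      have h1 := Ideal.mem_map_of_mem (AdicCompletion.evalₐ (Ideal.span {b}) n).toRingHom h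
      rw [Ideal.map_map, show (AdicCompletion.evalₐ (Ideal.span {b}) n).toRingHom.comp (algebraMap B C) =
        Ideal.Quotient.mk (Ideal.span {b} ^ n) from RingHom.ext (eval_algebraMap b n)] at h1
      have h2 : Ideal.Quotient.mk (Ideal.span {b} ^ n) (algebraMap A B a) ∈
          (J ^ n).map (Ideal.Quotient.mk (Ideal.span {b} ^ n)) := by
        convert h1 using 1; exact (eval_algebraMap b n _).symm
      rw [← Ideal.mem_comap, Ideal.comap_map_of_surjective _ Ideal.Quotient.mk_surjective, ← RingHom.ker_eq_comap_bot,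
        Ideal.mk_ker, sup_eq_left.2 (Ideal.pow_right_mono hbI n)] at h2
      exact h2
    · refine le_trans ?_ (modDC_completion t (Ideal.span {x | x ∈ l}) hdc)
      rw [← Ideal.span_union]
      refine Ideal.span_mono fun x hx => ?_
      rcases List.mem_cons.1 hx with h | h
      · exact Or.inr h
      · exact Or.inl h
    · rw [IsScalarTower.algebraMap_eq A B C]
      refine bij_comp (hbij U hU) (bij_step b fun z hz => ?_)
      by_contra h
      exact hz (hU _ h ht)

/-- Clopen subsets of `U ⊇ Spec A \ V(I)` and of its preimage in the completion correspond. -/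
theorem bij_completion {A : Type u} [CommRing A] (I : Ideal A) (hI : I.FG) [HenselianRing A I]
    (U : Set (PrimeSpectrum A)) (hU : ∀ z, z ∉ U → I ≤ z.asIdeal) :
    Bij (algebraMap A (AdicCompletion I A)) U := by
  classical
  obtain ⟨s, hs⟩ := id hI
  obtain ⟨B, _, _, hB, hsurj, hinj, hdc, hbij⟩ := exists_iterated I s.toList
    fun f hf => hs ▸ Ideal.subset_span (Finset.mem_toList.1 hf)
  have hdc' : I ≤ dcIdeal (A := A) B := by
    refine le_trans (le_of_eq ?_) hdc
    rw [← hs]
    exact congrArg Ideal.span (Set.ext fun x => (Finset.mem_toList).symm)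
  let J := I.map (algebraMap A B)
  have hJ : J.FG := hI.map _
  have hBdc : ModDC J B := by
    rw [modDC_iff_le, Ideal.map_le_iff_le_comap]
    intro f hf
    rw [Ideal.mem_comap, mem_dcIdeal]
    have e : sm B (algebraMap A B f) = sm B f := AddMonoidHom.ext fun x => algebraMap_smul B f x
    rw [e]
    exact hdc' hf
  let q : B →+* AdicCompletion J B := algebraMap B _
  have hq : Function.Surjective q := fun x => surjective_completion hJ hBdc x
  have hker : ∀ x, q x = 0 → IsNilpotent x := by
    intro x hx
    have hmem : x ∈ ⨅ n : ℕ, J ^ n := by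
      rw [Ideal.mem_iInf]
      intro n
      rw [← Ideal.Quotient.eq_zero_iff_mem, ← FSchLib.evalₐ_algebraMap J n x]
      show AdicCompletion.evalₐ J n (q x) = 0
      rw [hx, map_zero]
    have hspan : Ideal.span (↑(s.image (algebraMap A B)) : Set B) = J := by
      rw [Finset.coe_image, ← Ideal.map_span]; exact congrArg _ hs
    refine ⟨_, (Ideal.mem_bot).1 ((iInf_pow_pow_eq_bot (s.image (algebraMap A B)) hspan hBdc).le
      (Ideal.pow_mem_pow hmem _))⟩
  have hle : I.map (algebraMap A B) ≤ J := le_rfl
  let E := RingEquiv.ofBijective _ (AdicRing.bijective_complMap_of_levels I J (algebraMap A B) hle fun n =>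
    ⟨Ideal.quotientMap_injective' fun a ha => hinj n a ha, fun y => by
      obtain ⟨y, rfl⟩ := Ideal.Quotient.mk_surjective y
      obtain ⟨a, ha⟩ := hsurj n y
      exact ⟨Ideal.Quotient.mk _ a, (Ideal.Quotient.eq.2 ha).symm⟩⟩)
  have e : algebraMap A (AdicCompletion I A) = E.symm.toRingHom.comp (q.comp (algebraMap A B)) := by
    refine RingHom.ext fun a => E.injective ?_
    show E _ = E (E.symm _)
    rw [E.apply_symm_apply]
    refine AdicCompletion.ext_evalₐ fun n => ?_
    show AdicCompletion.evalₐ J n (FSch.complMap I J (algebraMap A B) hle _) = _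
    rw [FSchLib.evalₐ_complMap, FSchLib.evalₐ_algebraMap, Ideal.quotientMap_mk]
    exact (FSchLib.evalₐ_algebraMap J n _).symm
  rw [e]
  exact bij_comp (bij_comp (hbij U hU) (bij_of_isHomeomorph (isHomeomorph_comap_of_surjective hq hker) _))
    (bij_of_isHomeomorph (PrimeSpectrum.homeomorphOfRingEquiv E).isHomeomorph _)

end Groth.Agent.EGA43.GabberClopen
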