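import Groth.Agent.EGA43.GabberClopen.Basic
import Groth.Agent.FSchLib.Completion

/-!
# Completion along one element identifies clopen subsets
-/

set_option autoImplicit false
set_option backward.isDefEq.respectTransparency false
set_option linter.style.haveILetI false

universe u

open PrimeSpectrum

namespace Groth.Agent.EGA43.GabberClopen

variable {B : Type u} [CommRing B] (b : B)

/-- The completion along `b`. -/
abbrev Cb : Type u := AdicCompletion (Ideal.span {b}) B

local notation "ι" => algebraMap B (Cb b)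

theorem eval_algebraMap (m : ℕ) (x : B) :
    AdicCompletion.evalₐ (Ideal.span {b}) m (ι x) = Ideal.Quotient.mk _ x :=
  FSchLib.evalₐ_algebraMap _ m x

theorem eval_eq_zero_iff (m : ℕ) (c : Cb b) :
    AdicCompletion.evalₐ (Ideal.span {b}) m c = 0 ↔ c ∈ Ideal.span {ι b ^ m} := by
  rw [← Ideal.span_singleton_pow, ← Set.image_singleton, ← Ideal.map_span,
    ← FSchLib.ker_evalₐ (Ideal.span {b}) ⟨{b}, by simp⟩ m]
  exact RingHom.mem_ker.symm

theorem exists_sub_mem (c : Cb b) (m : ℕ) : ∃ x : B, c - ι x ∈ Ideal.span {ι b ^ m} := by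
  obtain ⟨x, hx⟩ := Ideal.Quotient.mk_surjective (AdicCompletion.evalₐ (Ideal.span {b}) m c)
  exact ⟨x, (eval_eq_zero_iff b m _).1 (by rw [map_sub, eval_algebraMap, hx, sub_self])⟩

theorem mem_of_map_mem {x : B} {m : ℕ} (h : ι x ∈ Ideal.span {ι b ^ m}) : x ∈ Ideal.span {b ^ m} := by
  have h1 := (eval_eq_zero_iff b m _).2 h
  rwa [eval_algebraMap, Ideal.Quotient.eq_zero_iff_mem, Ideal.span_singleton_pow] at h1

theorem mem_jacobson : ι b ∈ Ideal.jacobson (⊥ : Ideal (Cb b)) :=
  FSchLib.map_le_jacobson (Ideal.span {b}) ⟨{b}, by simp⟩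
    (Ideal.mem_map_of_mem _ (Ideal.mem_span_singleton_self b))

/-- A point of `V(b)` lifts uniquely. -/
theorem exists_lift {y : PrimeSpectrum B} (hy : b ∈ y.asIdeal) :
    ∃ y₁ : PrimeSpectrum (Cb b), comap ι y₁ = y ∧ ∀ z : PrimeSpectrum (Cb b), comap ι z = y → z = y₁ := by
  let ε := (AdicCompletion.evalₐ (Ideal.span {b}) 1).toRingHom
  let π : B ⧸ Ideal.span {b} ^ 1 →+* B ⧸ y.asIdeal := Ideal.Quotient.factor (by
    rw [pow_one, Ideal.span_le, Set.singleton_subset_iff]; exact hy)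
  have key : ∀ c, π (ε c) = 0 ↔ ∃ x ∈ y.asIdeal, c - ι x ∈ Ideal.span {ι b ^ 1} := by
    intro c
    obtain ⟨x, hx⟩ := exists_sub_mem b c 1
    have h1 : ε c = Ideal.Quotient.mk _ x := by
      have := (eval_eq_zero_iff b 1 _).2 hx
      rwa [map_sub, eval_algebraMap, sub_eq_zero] at this
    rw [h1]
    show Ideal.Quotient.mk y.asIdeal x = 0 ↔ _
    rw [Ideal.Quotient.eq_zero_iff_mem]
    refine ⟨fun h => ⟨x, h, hx⟩, fun ⟨x', hx', h'⟩ => ?_⟩
    have h2 := mem_of_map_mem b (m := 1) (x := x - x') (by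
      rw [map_sub, show ι x - ι x' = (c - ι x') - (c - ι x) by ring]; exact sub_mem h' hx)
    obtain ⟨q, hq⟩ := Ideal.mem_span_singleton'.1 h2
    rw [show x = x' + q * b ^ 1 by rw [hq]; ring]
    exact add_mem hx' (y.asIdeal.mul_mem_left _ (by rwa [pow_one]))
  refine ⟨⟨RingHom.ker (π.comp ε), RingHom.ker_isPrime _⟩, ?_, fun z hz => ?_⟩
  · ext x
    show π (ε (ι x)) = 0 ↔ _
    rw [show ε (ι x) = Ideal.Quotient.mk _ x from eval_algebraMap b 1 x]
    exact Ideal.Quotient.eq_zero_iff_mem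
  · subst hz
    refine PrimeSpectrum.ext (Ideal.ext fun c => ?_)
    show c ∈ z.asIdeal ↔ π (ε c) = 0
    rw [key c]
    have hbz : ∀ q ∈ Ideal.span {ι b ^ 1}, q ∈ z.asIdeal := fun q hq => by
      obtain ⟨r, rfl⟩ := Ideal.mem_span_singleton'.1 hq
      exact z.asIdeal.mul_mem_left _ (by rw [pow_one]; exact hy)
    refine ⟨fun hc => ?_, fun ⟨x, hx, h⟩ => ?_⟩
    · obtain ⟨x, hx⟩ := exists_sub_mem b c 1
      refine ⟨x, ?_, hx⟩
      show ι x ∈ z.asIdeal
      rw [show ι x = c - (c - ι x) by ring]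
      exact sub_mem hc (hbz _ hx)
    · rw [show c = ι x + (c - ι x) by ring]
      exact add_mem hx (hbz _ h)

/-- A specialisation `x ⤳ y` with `x` off and `y` on `V(b)` can be refined so as to lift. -/
theorem exists_chain {x y : PrimeSpectrum B} (hxy : x.asIdeal ≤ y.asIdeal) (hx : b ∉ x.asIdeal)
    (hy : b ∈ y.asIdeal) :
    ∃ P M : PrimeSpectrum (Cb b), P.asIdeal ≤ M.asIdeal ∧ comap ι M = y ∧ ι b ∉ P.asIdeal ∧
      x.asIdeal ≤ (comap ι P).asIdeal := by
  let K := FractionRing (B ⧸ x.asIdeal)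
  let φ : B →+* K := (algebraMap (B ⧸ x.asIdeal) K).comp (Ideal.Quotient.mk x.asIdeal)
  have hφ : ∀ r, φ r = 0 ↔ r ∈ x.asIdeal := fun r => by
    rw [RingHom.comp_apply, map_eq_zero_iff _ (IsFractionRing.injective _ _), Ideal.Quotient.eq_zero_iff_mem]
  let g : Localization.AtPrime y.asIdeal →+* K := IsLocalization.lift (M := y.asIdeal.primeCompl) (g := φ)
    fun s => isUnit_iff_ne_zero.2 fun h => s.2 (hxy ((hφ _).1 h))
  have hg : ∀ r, g (algebraMap B _ r) = φ r := IsLocalization.lift_eq _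
  obtain ⟨V, hV⟩ := (LocalSubring.range g).exists_le_valuationSubring
  have hVA : ∀ r, φ r ∈ V := fun r => hV.1 ⟨_, hg r⟩
  have hmem : ∀ r, r ∈ y.asIdeal ↔ V.valuation (φ r) < 1 := by
    intro r
    refine ⟨fun hr => ?_, fun h => by_contra fun hr => ?_⟩
    · by_contra hc
      have h1 : V.valuation (φ r) = 1 := le_antisymm ((V.valuation_le_one_iff _).mpr (hVA r)) (not_lt.mp hc)
      have hu : IsUnit (⟨φ r, hVA r⟩ : V) := (V.valuation_eq_one_iff ⟨φ r, hVA r⟩).mpr h1
      have h2 : IsUnit (⟨φ r, ⟨_, hg r⟩⟩ : g.range) := hV.2.1 _ hu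
      obtain ⟨⟨_, w, rfl⟩, hw⟩ := isUnit_iff_exists_inv.mp h2
      have h4 : IsUnit (algebraMap B (Localization.AtPrime y.asIdeal) r * w) := by
        by_contra hn
        have h5 : g (algebraMap B _ r * w) = 1 := by rw [map_mul, hg]; exact congrArg Subtype.val hw
        have h6 : IsUnit (1 - algebraMap B (Localization.AtPrime y.asIdeal) r * w) :=
          IsLocalRing.isUnit_one_sub_self_of_mem_nonunits _ hn
        exact (h6.map g).ne_zero (by rw [map_sub, map_one, h5, sub_self])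
      exact (IsLocalization.AtPrime.to_map_mem_maximal_iff _ y.asIdeal r).2 hr (isUnit_of_mul_isUnit_left h4)
    · have hu : IsUnit (algebraMap B (Localization.AtPrime y.asIdeal) r) :=
        IsLocalization.map_units _ (⟨r, hr⟩ : y.asIdeal.primeCompl)
      obtain ⟨w, hw⟩ := isUnit_iff_exists_inv.1 hu
      have h1 : φ r * g w = 1 := by rw [← hg, ← map_mul, hw, map_one]
      have h2 := congrArg V.valuation h1
      rw [map_mul, map_one] at h2
      exact ((mul_le_of_le_one_right zero_le ((V.valuation_le_one_iff _).mpr (hV.1 ⟨w, rfl⟩))).trans_lt h).ne h2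
  let v : B → V.ValueGroup := fun r => V.valuation (φ r)
  let t := v b
  have ht : t < 1 := (hmem b).1 hy
  have ht0 : t ≠ 0 := (map_ne_zero V.valuation).2 fun h => hx ((hφ b).1 h)
  -- `c ≡ x` modulo `b ^ m`
  let Cg : Cb b → ℕ → B → Prop := fun c m r => c - ι r ∈ Ideal.span {ι b ^ m}
  have hstep : ∀ {c : Cb b} {m k : ℕ} {r r' : B}, m ≤ k → Cg c m r → Cg c k r' → v (r' - r) ≤ t ^ m := by
    intro c m k r r' hmk h1 h2
    have h3 : Ideal.span {ι b ^ k} ≤ Ideal.span {ι b ^ m} :=
      Ideal.span_singleton_le_span_singleton.2 (pow_dvd_pow _ hmk)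
    obtain ⟨q, hq⟩ := Ideal.mem_span_singleton'.1 (mem_of_map_mem b (x := r' - r) (m := m) (by
      rw [map_sub, show ι r' - ι r = (c - ι r) - (c - ι r') by ring]; exact sub_mem h1 (h3 h2)))
    show V.valuation (φ (r' - r)) ≤ _
    rw [← hq, map_mul, map_mul, map_pow, map_pow]
    exact mul_le_of_le_one_left zero_le ((V.valuation_le_one_iff _).mpr (hVA q))
  let I : Ideal (Cb b) :=
    { carrier := {c | ∀ m r, Cg c m r → v r ≤ t ^ m}
      zero_mem' := fun m r h => by
        simpa using hstep (le_refl m) (show Cg 0 m 0 by simp [Cg]) h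
      add_mem' := fun {c c'} hc hc' m r h => by
        obtain ⟨r₁, hr₁⟩ := exists_sub_mem b c m
        obtain ⟨r₂, hr₂⟩ := exists_sub_mem b c' m
        have h' : Cg (c + c') m (r₁ + r₂) := by
          show c + c' - ι (r₁ + r₂) ∈ _
          rw [map_add, add_sub_add_comm]
          exact add_mem hr₁ hr₂
        have e : φ r = φ (r - (r₁ + r₂)) + (φ r₁ + φ r₂) := by rw [← map_add, ← map_add, sub_add_cancel]
        show V.valuation (φ r) ≤ _
        rw [e]
        exact V.valuation.map_add_le (hstep le_rfl h' h)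
          (V.valuation.map_add_le (hc m r₁ hr₁) (hc' m r₂ hr₂))
      smul_mem' := fun a c hc m r h => by
        obtain ⟨r₁, hr₁⟩ := exists_sub_mem b c m
        obtain ⟨r₂, hr₂⟩ := exists_sub_mem b a m
        have h' : Cg (a * c) m (r₂ * r₁) := by
          show a * c - ι (r₂ * r₁) ∈ _
          rw [map_mul, show a * c - ι r₂ * ι r₁ = (a - ι r₂) * c + ι r₂ * (c - ι r₁) by ring]
          exact add_mem (Ideal.mul_mem_right _ _ hr₂) (Ideal.mul_mem_left _ _ hr₁)
        have e : φ r = φ (r - r₂ * r₁) + φ r₂ * φ r₁ := by rw [← map_mul, ← map_add, sub_add_cancel]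
        show V.valuation (φ r) ≤ _
        rw [e]
        refine V.valuation.map_add_le (hstep le_rfl h' h) ?_
        rw [map_mul]
        exact (mul_le_of_le_one_left zero_le ((V.valuation_le_one_iff _).mpr (hVA r₂))).trans (hc m r₁ hr₁) }
  have hbI : ι b ∉ I := fun h => by
    have h1 : v b ≤ t ^ 2 := h 2 b (show ι b - ι b ∈ _ by simp)
    have : t ^ 2 < t := by
      rw [pow_two]
      exact (mul_lt_mul_of_pos_right ht (zero_lt_iff.2 ht0)).trans_eq (one_mul t)
    exact absurd h1 (not_le.2 this)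
  have hI : I.IsPrime := by
    refine ⟨fun h => hbI (h ▸ Submodule.mem_top), fun {c d} hcd => ?_⟩
    by_contra! hh
    obtain ⟨m, r, hr, hrv⟩ : ∃ m r, Cg c m r ∧ t ^ m < v r := by
      by_contra! h; exact hh.1 h
    obtain ⟨k, s, hs, hsv⟩ : ∃ k s, Cg d k s ∧ t ^ k < v s := by
      by_contra! h; exact hh.2 h
    obtain ⟨r', hr'⟩ := exists_sub_mem b c (m + k)
    obtain ⟨s', hs'⟩ := exists_sub_mem b d (m + k)
    have hb1 : ∀ {n j : ℕ} {c : Cb b} {r r' : B}, n ≤ j → Cg c n r → t ^ n < v r → Cg c j r' → v r' = v r := by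
      intro n j c r r' hnj h1 h2 h3
      show V.valuation (φ r') = V.valuation (φ r)
      rw [show φ r' = φ (r' - r) + φ r by rw [← map_add, sub_add_cancel]]
      exact Valuation.map_add_eq_of_lt_right _ ((hstep hnj h1 h3).trans_lt h2)
    have e1 := hb1 (Nat.le_add_right m k) hr hrv hr'
    have e2 := hb1 (Nat.le_add_left k m) hs hsv hs'
    have h' : Cg (c * d) (m + k) (r' * s') := by
      show c * d - ι (r' * s') ∈ _
      rw [map_mul, show c * d - ι r' * ι s' = (c - ι r') * d + ι r' * (d - ι s') by ring]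
      exact add_mem (Ideal.mul_mem_right _ _ hr') (Ideal.mul_mem_left _ _ hs')
    have h1 := hcd (m + k) _ h'
    have h2 : t ^ m * t ^ k < v r' * v s' := by
      rw [e1, e2]; exact mul_lt_mul'' hrv hsv zero_le zero_le
    rw [← pow_add] at h2
    refine absurd h1 (not_le.2 ?_)
    show _ < V.valuation (φ (r' * s'))
    rw [map_mul, map_mul]
    exact h2
  obtain ⟨M, hM, -⟩ := exists_lift b hy
  refine ⟨⟨I, hI⟩, M, fun c hc => ?_, hM, hbI, fun r hr => ?_⟩
  · obtain ⟨r, hr⟩ := exists_sub_mem b c 1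
    have h1 : v r ≤ t := by simpa using hc 1 r hr
    have h2 : r ∈ y.asIdeal := (hmem r).2 (h1.trans_lt ht)
    rw [← hM] at h2
    have hbM : ι b ∈ M.asIdeal := by rw [← hM] at hy; exact hy
    obtain ⟨q, hq⟩ := Ideal.mem_span_singleton'.1 hr
    rw [show c = ι r + (c - ι r) by ring, ← hq, pow_one]
    exact add_mem h2 (M.asIdeal.mul_mem_left _ hbM)
  · show ι r ∈ I
    intro m s hs
    have h1 := hstep (le_refl m) (show Cg (ι r) m r by simp [Cg]) hs
    show V.valuation (φ s) ≤ _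
    rw [show φ s = φ (s - r) + φ r by rw [← map_add, sub_add_cancel]]
    exact V.valuation.map_add_le h1 (by rw [(hφ r).2 hr, map_zero]; exact zero_le)

theorem part_preimage {R S : Type u} [CommRing R] [CommRing S] (f : R →+* S) (b a : R) :
    comap f ⁻¹' part b a = part (f b) (f a) := rfl

/-- Completion along an element identifies clopen subsets. -/
theorem bij_step [HenselianRing B (Ideal.span {b})] {U : Set (PrimeSpectrum B)}
    (hbU : {z : PrimeSpectrum B | b ∉ z.asIdeal} ⊆ U) : Bij (ι) U := by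
  have hbjac : b ∈ Ideal.jacobson (⊥ : Ideal B) :=
    HenselianRing.jac (I := Ideal.span {b}) (Ideal.mem_span_singleton_self b)
  refine ⟨fun V₁ hV₁ => ?_, fun V V' hV hV' he => ?_⟩
  · -- restriction to `D(b)`
    obtain ⟨n, a, ha, hVa, hVa'⟩ := exists_data (ι b) (V₁ ∩ {z | ι b ∉ z.asIdeal}) Set.inter_subset_right
      (hV₁.2.1.inter (basicOpen (ι b)).2) (by
        convert hV₁.2.2.inter (basicOpen (ι b)).2 using 1
        ext z
        exact ⟨fun ⟨h1, h2⟩ => ⟨⟨hbU (show b ∉ (comap ι z).asIdeal from h1), fun h => h2 ⟨h, h1⟩⟩, h1⟩,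
          fun ⟨⟨_, h2⟩, h3⟩ => ⟨h3, fun h => h2 h.1⟩⟩)
    obtain ⟨a₀, ha₀⟩ := exists_sub_mem b a (3 * n + 2)
    obtain ⟨q, hq⟩ := Ideal.mem_span_singleton'.1 ha₀
    obtain ⟨y, hy, hya⟩ := exists_near_data b n a₀ (mem_of_map_mem b (by
      rw [map_sub, map_mul, map_mul, map_pow]
      refine Ideal.mem_span_singleton'.2 ⟨q * (ι b ^ n - a - ι a₀), ?_⟩
      linear_combination (ι b ^ n - a - ι a₀) * hq - ha))
    have hyy : ι y * ι y = ι b ^ n * ι y := by rw [← map_mul, hy, map_mul, map_pow]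
    obtain ⟨q', hq'⟩ := Ideal.mem_span_singleton'.1 hya
    have hpart : part (ι b) (ι y) = part (ι b) a := part_eq_of_congr (ι b) (mem_jacobson b) hyy ha one_pos (by
      refine Ideal.mem_span_singleton'.2 ⟨ι q' - q * ι b ^ (2 * n + 1), ?_⟩
      have h1 : ι y - ι a₀ = ι q' * ι b ^ (n + 1) := by rw [← map_sub, ← hq', map_mul, map_pow]
      rw [pow_one, mul_one]
      linear_combination (-(ι b ^ (n + 1))) * h1 + (-(ι b ^ (n + 1))) * hq)
    -- the candidate
    let V : Set (PrimeSpectrum B) := part b y ∪ {z | b ∈ z.asIdeal ∧ ∃ z₁ ∈ V₁, comap ι z₁ = z}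
    have hpre : comap ι ⁻¹' V = V₁ := by
      ext z
      by_cases hbz : ι b ∈ z.asIdeal
      · refine ⟨fun h => ?_, fun h => Or.inr ⟨hbz, z, h, rfl⟩⟩
        rcases h with h | ⟨_, z₁, hz₁, he⟩
        · exact absurd hbz h.1
        · obtain ⟨w, -, hw⟩ := exists_lift b (y := comap ι z) hbz
          rwa [hw z rfl, ← hw z₁ he]
      · refine ⟨fun h => ?_, fun h => Or.inl ?_⟩
        · rcases h with h | ⟨h, -⟩
          · have : z ∈ part (ι b) (ι y) := h
            rw [hpart, ← hVa] at this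
            exact this.1
          · exact absurd h hbz
        · have : z ∈ part (ι b) (ι y) := by rw [hpart, ← hVa]; exact ⟨h, hbz⟩
          exact this
    have hVU : V ⊆ U := by
      rintro z (h | ⟨-, z₁, hz₁, rfl⟩)
      · exact hbU h.1
      · exact hV₁.1 hz₁
    -- openness at points of `V(b)`
    have hopen : ∀ (W₁ : Set (PrimeSpectrum (Cb b))) (a' : B) (W : Set (PrimeSpectrum B)),
        IsOpen W₁ → W₁ ⊆ comap ι ⁻¹' U → comap ι ⁻¹' W = W₁ →
        part b a' ⊆ W → (∀ z ∈ W, b ∉ z.asIdeal → z ∈ part b a') →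
        a' * a' = b ^ n * a' → IsOpen W := by
      intro W₁ a' W hW₁ hW₁U hW hsub hsup ha'
      refine isOpen_iff_forall_mem_open.2 fun p hp => ?_
      by_cases hbp : b ∈ p.asIdeal
      swap
      · exact ⟨_, hsub, isOpen_part b a', hsup p hp hbp⟩
      obtain ⟨p₁, hp₁, -⟩ := exists_lift b hbp
      have hp₁W : p₁ ∈ W₁ := by rw [← hW, Set.mem_preimage, hp₁]; exact hp
      obtain ⟨_, ⟨g, rfl⟩, hg, hgW⟩ :=
        PrimeSpectrum.isTopologicalBasis_basic_opens.exists_subset_of_mem_open hp₁W hW₁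
      obtain ⟨g₀, hg₀⟩ := exists_sub_mem b g 1
      -- generalisations of `p` in `D(b)` lie in `part b a'`
      have hgen : ∀ x : PrimeSpectrum B, x.asIdeal ≤ p.asIdeal → b ∉ x.asIdeal → a' ∉ x.asIdeal := by
        intro x hxp hxb hxa
        obtain ⟨P, M, hPM, hM, hPb, hxP⟩ := exists_chain b hxp hxb hbp
        have hMp₁ : M = p₁ := by
          obtain ⟨w, -, hw⟩ := exists_lift b hbp
          rw [hw M hM, hw p₁ hp₁]
        have hP : P ∈ W₁ := by
          have hPW := ((PrimeSpectrum.le_iff_specializes P M).1 hPM)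
          rw [hMp₁] at hPW
          exact hPW.mem_open hW₁ hp₁W
        have : comap ι P ∈ W := by rw [← hW] at hP; exact hP
        exact (hsup _ this hPb).2 (hxP hxa)
      have hnil : ∀ z : PrimeSpectrum (Localization.AtPrime p.asIdeal),
          algebraMap B _ b ∈ z.asIdeal ∨ algebraMap B _ (b ^ n - a') ∈ z.asIdeal := by
        intro z
        by_contra! hz
        have hxp : (comap (algebraMap B (Localization.AtPrime p.asIdeal)) z).asIdeal ≤ p.asIdeal := fun r hr =>
          (IsLocalization.AtPrime.to_map_mem_maximal_iff (Localization.AtPrime p.asIdeal) p.asIdeal r).1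
            (IsLocalRing.le_maximalIdeal z.2.ne_top hr)
        refine hz.2 ?_
        rw [← neg_sub, map_neg]
        exact neg_mem ((sub_mem_or ha' (comap (algebraMap B (Localization.AtPrime p.asIdeal)) z)).resolve_left
          (hgen _ hxp hz.1))
      obtain ⟨l, hl, hl0⟩ := exists_pow_eq_zero (b := algebraMap B (Localization.AtPrime p.asIdeal) b)
        (x := algebraMap B (Localization.AtPrime p.asIdeal) (b ^ n - a'))
        fun z hz => (hnil z).resolve_left hz
      rw [← map_mul, ← map_pow] at hl0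
      obtain ⟨⟨s, hs⟩, hs0⟩ := (IsLocalization.map_eq_zero_iff p.asIdeal.primeCompl _ _).1 hl0
      refine ⟨(basicOpen g₀ : Set (PrimeSpectrum B)) ∩ basicOpen s, fun z hz => ?_,
        (basicOpen g₀).2.inter (basicOpen s).2, ?_, hs⟩
      · by_cases hbz : b ∈ z.asIdeal
        · obtain ⟨z₁, hz₁, -⟩ := exists_lift b hbz
          rw [← hz₁, ← Set.mem_preimage, hW]
          refine hgW fun h => hz.1 ?_
          rw [← hz₁]
          show ι g₀ ∈ z₁.asIdeal
          rw [show ι g₀ = g - (g - ι g₀) by ring]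
          obtain ⟨r, hr⟩ := Ideal.mem_span_singleton'.1 hg₀
          rw [← hr, pow_one]
          exact sub_mem h (z₁.asIdeal.mul_mem_left _ (by rw [← hz₁] at hbz; exact hbz))
        · refine hsub ⟨hbz, fun h => ?_⟩
          have h1 : s * (b * (b ^ n - a')) ^ l ∈ z.asIdeal := by rw [hs0]; exact Submodule.zero_mem _
          have h2 := (z.2.mem_or_mem ((z.2.mem_or_mem h1).resolve_left hz.2 |> z.2.mem_of_pow_mem l)).resolve_left hbz
          have h3 := add_mem h2 h
          rw [sub_add_cancel] at h3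
          exact hbz (z.2.mem_of_pow_mem _ h3)
      · intro h
        apply hg
        rw [show g = ι g₀ + (g - ι g₀) by ring]
        obtain ⟨r, hr⟩ := Ideal.mem_span_singleton'.1 hg₀
        rw [← hr, pow_one]
        rw [← hp₁] at h hbp
        exact add_mem h (p₁.asIdeal.mul_mem_left _ hbp)
    refine ⟨V, ⟨hVU, hopen V₁ y V hV₁.2.1 hV₁.1 hpre Set.subset_union_left
      (fun z hz hbz => hz.resolve_right fun h => hbz h.1) hy, ?_⟩, hpre⟩
    refine hopen _ (b ^ n - y) (U \ V) hV₁.2.2 Set.diff_subset (by rw [Set.preimage_diff, hpre]) ?_ ?_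
      (by linear_combination hy)
    · rintro z ⟨hb1, h2⟩
      refine ⟨hbU hb1, ?_⟩
      rintro (h | ⟨h, -⟩)
      · exact h2 (by rw [← neg_sub]; exact neg_mem ((sub_mem_or hy z).resolve_left h.2))
      · exact hb1 h
    · rintro z ⟨-, h2⟩ hbz
      refine ⟨hbz, fun h => h2 (Or.inl ⟨hbz, fun h' => ?_⟩)⟩
      have := add_mem h h'
      rw [sub_add_cancel] at this
      exact hbz (z.2.mem_of_pow_mem _ this)
  · ext z
    by_cases hbz : b ∈ z.asIdeal
    · obtain ⟨z₁, rfl, -⟩ := exists_lift b hbz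
      exact Set.ext_iff.1 he z₁
    have hd : ∀ {W}, ClopenIn U W → ∃ (k : ℕ) (c : B), c * c = b ^ k * c ∧
        W ∩ {z | b ∉ z.asIdeal} = part b c := fun {W} hW => by
      obtain ⟨k, c, hc, h, -⟩ := exists_data b (W ∩ {z | b ∉ z.asIdeal}) Set.inter_subset_right
        (hW.2.1.inter (basicOpen b).2) (by
          convert hW.2.2.inter (basicOpen b).2 using 1
          ext z
          exact ⟨fun ⟨h1, h2⟩ => ⟨⟨hbU h1, fun h => h2 ⟨h, h1⟩⟩, h1⟩, fun ⟨⟨_, h2⟩, h3⟩ => ⟨h3, fun h => h2 h.1⟩⟩)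
      exact ⟨k, c, hc, h⟩
    obtain ⟨k, c, hc, hWc⟩ := hd hV
    obtain ⟨k', c', hc', hWc'⟩ := hd hV'
    have hp : part (ι b) (ι c) = part (ι b) (ι c') := by
      rw [← part_preimage, ← part_preimage, ← hWc, ← hWc', Set.preimage_inter, Set.preimage_inter, he]
    obtain ⟨l, hl, hl0⟩ := exists_pow_eq_zero (b := ι b) (x := ι (c * b ^ k' - c' * b ^ k)) fun z hz => by
      by_cases h : ι c ∈ z.asIdeal
      · have h' : ι c' ∈ z.asIdeal := by_contra fun h' => (hp.ge ⟨hz, h'⟩).2 h
        rw [map_sub, map_mul, map_mul]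
        exact sub_mem (Ideal.mul_mem_right _ _ h) (Ideal.mul_mem_right _ _ h')
      · have h' : ι c' ∉ z.asIdeal := (hp.le ⟨hz, h⟩).2
        have e1 := (sub_mem_or (n := k) (b := ι b) (a := ι c) (by rw [← map_mul, hc, map_mul, map_pow]) z).resolve_left h
        have e2 := (sub_mem_or (n := k') (b := ι b) (a := ι c') (by rw [← map_mul, hc', map_mul, map_pow]) z).resolve_left h'
        rw [map_sub, map_mul, map_mul, map_pow, map_pow,
          show ι c * ι b ^ k' - ι c' * ι b ^ k = (ι c - ι b ^ k) * ι b ^ k' - (ι c' - ι b ^ k') * ι b ^ k by ring]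
        exact sub_mem (Ideal.mul_mem_right _ _ e1) (Ideal.mul_mem_right _ _ e2)
    have hfin : part b c = part b c' := part_eq_of_congr b hbjac hc hc' hl (mem_of_map_mem b (by
      rw [map_pow, map_mul, hl0]; exact Submodule.zero_mem _))
    rw [← hWc, ← hWc'] at hfin
    exact ⟨fun h => (hfin.le ⟨h, hbz⟩).1, fun h => (hfin.ge ⟨h, hbz⟩).1⟩

end Groth.Agent.EGA43.GabberClopen
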